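import Cfsg.Agent.H884.CxChk
import Cfsg.Agent.H915.GNDefs
import Cfsg.Agent.OrdDiv.Table

/-!
# S5731, the affine core, piece AF5b: the cross characteristic bounds are large (helper127, task 3707 of helper192)

`asym` : for every `K` there is `B` with `K + (log₂ |T|)³ ≤ lb g` for all simple groups `T` of Lie type of order at
least `B`; `asym_num` : the numerical form.
-/

set_option autoImplicit false

namespace Cfsg.Agent.H127.Af

open Cfsg Cfsg.Agent.OrdDiv Cfsg.Agent.H436 Cfsg.Agent.H927.SgX Cfsg.Agent.H915.GN Cfsg.Agent.H884.Cx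

universe u

/-! ### growth -/

theorem growth (K : ℕ) : ∃ l0 : ℕ, ∀ l : ℕ, l0 ≤ l → 4 * (K + (248 * (l + 1) ^ 2) ^ 3 + 1) ≤ 2 ^ l := by
  have h1 : Filter.Tendsto (fun n : ℕ => ((n : ℝ) ^ 7 / 2 ^ n)) Filter.atTop (nhds 0) :=
    tendsto_pow_const_div_const_pow_of_one_lt 7 (by norm_num)
  have h2 : ∀ᶠ n : ℕ in Filter.atTop, (n : ℝ) ^ 7 / 2 ^ n < 1 / 2 :=
    (h1.eventually (gt_mem_nhds (by norm_num : (0 : ℝ) < 1 / 2)))
  obtain ⟨N, hN⟩ := Filter.eventually_atTop.1 h2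
  refine ⟨max N (4 * (K + 248 ^ 3 + 1)), fun l hl => ?_⟩
  have hl1 : N ≤ l := (le_max_left _ _).trans hl
  have hl2 : 4 * (K + 248 ^ 3 + 1) ≤ l := (le_max_right _ _).trans hl
  have h3 := hN (l + 1) (by omega)
  have h4 : ((l + 1 : ℕ) : ℝ) ^ 7 < 2 ^ l := by
    rw [div_lt_iff₀ (by positivity), pow_succ (2 : ℝ) l] at h3
    linarith
  have h5 : (l + 1) ^ 7 < 2 ^ l := by exact_mod_cast h4
  have h6 : 4 * (K + (248 * (l + 1) ^ 2) ^ 3 + 1) ≤ 4 * (K + 248 ^ 3 + 1) * (l + 1) ^ 6 := by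
    have h7 : 1 ≤ (l + 1) ^ 6 := Nat.one_le_pow _ _ (by omega)
    have h8 : (248 * (l + 1) ^ 2) ^ 3 = 248 ^ 3 * (l + 1) ^ 6 := by rw [mul_pow, ← pow_mul]
    rw [h8]
    generalize (l + 1) ^ 6 = x at h7 ⊢
    generalize 248 ^ 3 = c
    have h9 : K * 1 ≤ K * x := Nat.mul_le_mul_left _ h7
    calc 4 * (K + c * x + 1) ≤ 4 * (K * x + c * x + x) := by omega
      _ = 4 * (K + c + 1) * x := by ring
  calc 4 * (K + (248 * (l + 1) ^ 2) ^ 3 + 1) ≤ 4 * (K + 248 ^ 3 + 1) * (l + 1) ^ 6 := h6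
    _ ≤ (l + 1) * (l + 1) ^ 6 := Nat.mul_le_mul_right _ (by omega)
    _ = (l + 1) ^ 7 := by ring
    _ ≤ 2 ^ l := h5.le

/-! ### products -/

theorem prod_le_pow {s : ℕ} (f e : ℕ → ℕ) (n : ℕ) (h : ∀ i < n, f i ≤ s ^ e i) :
    ((List.range n).map f).prod ≤ s ^ (∑ i ∈ Finset.range n, e i) := by
  rw [prod_list, ← Finset.prod_pow_eq_pow_sum]
  exact Finset.prod_le_prod (fun _ _ => Nat.zero_le _) fun i hi => h i (Finset.mem_range.1 hi)

theorem sum_le_mul {e : ℕ → ℕ} {n D : ℕ} (h : ∀ i < n, e i ≤ D) : ∑ i ∈ Finset.range n, e i ≤ n * D := by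
  calc ∑ i ∈ Finset.range n, e i ≤ ∑ _i ∈ Finset.range n, D := Finset.sum_le_sum fun i hi => h i (Finset.mem_range.1 hi)
    _ = n * D := by rw [Finset.sum_const, Finset.card_range, smul_eq_mul]

theorem glN_le {n s : ℕ} (hs : 1 ≤ s) : glN n s ≤ s ^ (n * n) := by
  refine (prod_le_pow (fun i => s ^ n - s ^ i) (fun _ => n) n fun i _ => Nat.sub_le _ _).trans ?_
  exact Nat.pow_le_pow_right hs (sum_le_mul fun _ _ => le_rfl)

theorem prB_le {m s : ℕ} (hs : 1 ≤ s) : prB s m ≤ s ^ (2 * m * m) := by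
  refine (prod_le_pow (fun i => s ^ (2 * (i + 1)) - 1) (fun i => 2 * (i + 1)) m fun i _ => Nat.sub_le _ _).trans ?_
  refine Nat.pow_le_pow_right hs ((sum_le_mul (D := 2 * m) fun i hi => by omega).trans ?_)
  rw [mul_comm]

theorem prU_le {n s : ℕ} (hs : 2 ≤ s) : prU s n ≤ s ^ (2 * n * n) := by
  refine (prod_le_pow (s := s) (fun i => if Nat.beq (i % 2) 0 then s ^ (i + 1) + 1 else s ^ (i + 1) - 1)
    (fun i => i + 2) n fun i _ => ?_).trans ?_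
  · have h1 : 1 ≤ s ^ (i + 1) := Nat.one_le_pow _ _ (by omega)
    have h2 : s ^ (i + 1) + 1 ≤ s ^ (i + 2) := by
      rw [pow_succ s (i + 1)]
      nlinarith
    split_ifs
    · exact h2
    · exact (Nat.sub_le _ _).trans ((Nat.le_succ _).trans h2)
  · refine Nat.pow_le_pow_right (by omega) ?_
    rcases Nat.eq_zero_or_pos n with rfl | hn
    · simp
    · refine (sum_le_mul (D := 2 * n) fun i hi => by omega).trans ?_
      rw [mul_comm]

theorem add_one_le {s k : ℕ} (hs : 2 ≤ s) : s ^ k + 1 ≤ s ^ (k + 1) := by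
  have h1 : 1 ≤ s ^ k := Nat.one_le_pow _ _ (by omega)
  rw [pow_succ]
  nlinarith

/-- monotone products of two factors -/
theorem mul_le_pow {s x y a b : ℕ} (hx : x ≤ s ^ a) (hy : y ≤ s ^ b) : x * y ≤ s ^ (a + b) := by
  rw [pow_add]; exact Nat.mul_le_mul hx hy

theorem sub_le_pow {s k : ℕ} : s ^ k - 1 ≤ s ^ k := Nat.sub_le _ _

/-- **the two bounds** -/
theorem bounds {g : Grp} (hg : Cond g) (hl : IsLieN g) :
    ∃ s a : ℕ, 2 ≤ s ∧ 1 ≤ a ∧ num g ≤ s ^ (248 * a ^ 2) ∧ s ^ a ≤ 4 * (lsb g + 1) := by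
  have up : ∀ {s D E : ℕ} {x : ℕ}, 2 ≤ s → x ≤ s ^ D → D ≤ E → x ≤ s ^ E := fun hs hx hD =>
    hx.trans (Nat.pow_le_pow_right (by omega) hD)
  cases g with
  | psl m s =>
    obtain ⟨h1, h2, h3⟩ := hg
    have hs2 := h3.two_le
    refine ⟨s, m - 1, hs2, by omega, ?_, ?_⟩
    · change glN m s ≤ _
      refine up hs2 (glN_le (by omega)) ?_
      obtain ⟨k, rfl⟩ : ∃ k, m = k + 2 := ⟨m - 2, by omega⟩
      rw [show k + 2 - 1 = k + 1 by omega]
      nlinarith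
    · change _ ≤ 4 * ((if m = 2 then (s - 1) / 2 else s ^ (m - 1) - 1) + 1)
      split_ifs with hm
      · rw [hm, pow_one]
        omega
      · omega
  | psp m s =>
    obtain ⟨h1, h2, h3⟩ := hg
    have hs2 := h3.two_le
    refine ⟨s, m, hs2, by omega, ?_, ?_⟩
    · change s ^ (m ^ 2) * prB s m ≤ _
      refine up hs2 (mul_le_pow le_rfl (prB_le (by omega))) ?_
      nlinarith
    · change _ ≤ 4 * ((if s % 2 = 1 then (s ^ m - 1) / 2 else s ^ m - 1) + 1)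
      split_ifs <;> omega
  | psu m s =>
    obtain ⟨h1, h2, h3⟩ := hg
    have hs2 := h3.two_le
    refine ⟨s, m - 1, hs2, by omega, ?_, ?_⟩
    · change s ^ (m * (m - 1) / 2) * prU s m ≤ _
      refine up hs2 (mul_le_pow le_rfl (prU_le hs2)) ?_
      obtain ⟨k, rfl⟩ : ∃ k, m = k + 3 := ⟨m - 3, by omega⟩
      rw [show k + 3 - 1 = k + 2 by omega]
      have h4 : (k + 3) * (k + 2) / 2 ≤ (k + 3) * (k + 2) := Nat.div_le_self _ _
      nlinarith
    · change _ ≤ 4 * ((s - 1) * s ^ (m - 2) + 1)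
      obtain ⟨k, rfl⟩ : ∃ k, m = k + 3 := ⟨m - 3, by omega⟩
      rw [show k + 3 - 1 = k + 2 by omega, show k + 3 - 2 = k + 1 by omega, pow_succ s (k + 1)]
      obtain ⟨t, rfl⟩ : ∃ t, s = t + 2 := ⟨s - 2, by omega⟩
      rw [show t + 2 - 1 = t + 1 by omega]
      nlinarith [Nat.zero_le ((t + 2) ^ (k + 1))]
  | oodd m s =>
    obtain ⟨h1, h2, h3⟩ := hg
    have hs2 := h3.two_le
    refine ⟨s, m - 1, hs2, by omega, ?_, ?_⟩
    · change s ^ (m ^ 2) * prB s m ≤ _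
      refine up hs2 (mul_le_pow le_rfl (prB_le (by omega))) ?_
      obtain ⟨k, rfl⟩ : ∃ k, m = k + 3 := ⟨m - 3, by omega⟩
      rw [show k + 3 - 1 = k + 2 by omega]
      nlinarith
    · change _ ≤ 4 * (max (s ^ 3 - 1) (s ^ (m - 1) - 1) + 1)
      have := le_max_right (s ^ 3 - 1) (s ^ (m - 1) - 1)
      omega
  | oplus m s =>
    obtain ⟨h1, h3⟩ := hg
    have hs2 := h3.two_le
    refine ⟨s, m - 1, hs2, by omega, ?_, ?_⟩
    · change s ^ (m * (m - 1)) * ((s ^ m - 1) * prB s (m - 1)) ≤ _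
      refine up hs2 (mul_le_pow le_rfl (mul_le_pow sub_le_pow (prB_le (by omega)))) ?_
      obtain ⟨k, rfl⟩ : ∃ k, m = k + 4 := ⟨m - 4, by omega⟩
      rw [show k + 4 - 1 = k + 3 by omega]
      nlinarith
    · change _ ≤ 4 * (max (s ^ 3 - 1) (s ^ (m - 1) - 1) + 1)
      have := le_max_right (s ^ 3 - 1) (s ^ (m - 1) - 1)
      omega
  | ominus m s =>
    obtain ⟨h1, h3⟩ := hg
    have hs2 := h3.two_le
    refine ⟨s, m - 2, hs2, by omega, ?_, ?_⟩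
    · change s ^ (m * (m - 1)) * ((s ^ m + 1) * prB s (m - 1)) ≤ _
      refine up hs2 (mul_le_pow le_rfl (mul_le_pow (add_one_le hs2) (prB_le (by omega)))) ?_
      obtain ⟨k, rfl⟩ : ∃ k, m = k + 4 := ⟨m - 4, by omega⟩
      rw [show k + 4 - 1 = k + 3 by omega, show k + 4 - 2 = k + 2 by omega]
      nlinarith
    · change _ ≤ 4 * (max (s ^ 3 - 1) (s ^ (m - 2) - 1) + 1)
      have := le_max_right (s ^ 3 - 1) (s ^ (m - 2) - 1)
      omega
  | g2 s =>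
    have hs2 : 2 ≤ s := hg.2.two_le
    refine ⟨s, 1, hs2, le_rfl, ?_, ?_⟩
    · change s ^ 6 * ((s ^ 2 - 1) * (s ^ 6 - 1)) ≤ _
      exact up hs2 (mul_le_pow le_rfl (mul_le_pow sub_le_pow sub_le_pow)) (by norm_num)
    · change _ ≤ 4 * ((if s ≤ 4 then 0 else (s - 1) * s) + 1)
      rw [pow_one]
      split_ifs with h4
      · omega
      · have : 1 * s ≤ (s - 1) * s := Nat.mul_le_mul_right _ (by omega)
        omega
  | f4 s =>
    have hs2 : 2 ≤ s := IsPrimePow.two_le hg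
    refine ⟨s, 1, hs2, le_rfl, ?_, ?_⟩
    · change s ^ 24 * ((s ^ 2 - 1) * (s ^ 6 - 1) * (s ^ 8 - 1) * (s ^ 12 - 1)) ≤ _
      exact up hs2 (mul_le_pow le_rfl (mul_le_pow (mul_le_pow (mul_le_pow sub_le_pow sub_le_pow) sub_le_pow)
        sub_le_pow)) (by norm_num)
    · change _ ≤ 4 * ((if s = 2 then 0 else (s - 1) * s ^ 3) + 1)
      rw [pow_one]
      split_ifs with h4
      · omega
      · have h6 : s ≤ s ^ 3 := Nat.le_self_pow (by norm_num) s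
        have : 1 * s ^ 3 ≤ (s - 1) * s ^ 3 := Nat.mul_le_mul_right _ (by omega)
        omega
  | e6 s =>
    have hs2 : 2 ≤ s := IsPrimePow.two_le hg
    refine ⟨s, 1, hs2, le_rfl, ?_, ?_⟩
    · change s ^ 36 * ((s ^ 2 - 1) * (s ^ 5 - 1) * (s ^ 6 - 1) * (s ^ 8 - 1) * (s ^ 9 - 1) * (s ^ 12 - 1)) ≤ _
      exact up hs2 (mul_le_pow le_rfl (mul_le_pow (mul_le_pow (mul_le_pow (mul_le_pow (mul_le_pow sub_le_pow
        sub_le_pow) sub_le_pow) sub_le_pow) sub_le_pow) sub_le_pow)) (by norm_num)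
    · change _ ≤ 4 * ((s - 1) * s ^ 6 + 1)
      rw [pow_one]
      have h6 : s ≤ s ^ 6 := Nat.le_self_pow (by norm_num) s
      have : 1 * s ^ 6 ≤ (s - 1) * s ^ 6 := Nat.mul_le_mul_right _ (by omega)
      omega
  | e7 s =>
    have hs2 : 2 ≤ s := IsPrimePow.two_le hg
    refine ⟨s, 1, hs2, le_rfl, ?_, ?_⟩
    · change s ^ 63 * ((s ^ 2 - 1) * (s ^ 6 - 1) * (s ^ 8 - 1) * (s ^ 10 - 1) * (s ^ 12 - 1) * (s ^ 14 - 1) *
        (s ^ 18 - 1)) ≤ _
      exact up hs2 (mul_le_pow le_rfl (mul_le_pow (mul_le_pow (mul_le_pow (mul_le_pow (mul_le_pow (mul_le_pow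
        sub_le_pow sub_le_pow) sub_le_pow) sub_le_pow) sub_le_pow) sub_le_pow) sub_le_pow)) (by norm_num)
    · change _ ≤ 4 * ((s - 1) * s ^ 7 + 1)
      rw [pow_one]
      have h6 : s ≤ s ^ 7 := Nat.le_self_pow (by norm_num) s
      have : 1 * s ^ 7 ≤ (s - 1) * s ^ 7 := Nat.mul_le_mul_right _ (by omega)
      omega
  | e8 s =>
    have hs2 : 2 ≤ s := IsPrimePow.two_le hg
    refine ⟨s, 1, hs2, le_rfl, ?_, ?_⟩
    · change s ^ 120 * ((s ^ 2 - 1) * (s ^ 8 - 1) * (s ^ 12 - 1) * (s ^ 14 - 1) * (s ^ 18 - 1) * (s ^ 20 - 1) *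
        (s ^ 24 - 1) * (s ^ 30 - 1)) ≤ _
      exact up hs2 (mul_le_pow le_rfl (mul_le_pow (mul_le_pow (mul_le_pow (mul_le_pow (mul_le_pow (mul_le_pow
        (mul_le_pow sub_le_pow sub_le_pow) sub_le_pow) sub_le_pow) sub_le_pow) sub_le_pow) sub_le_pow)
        sub_le_pow)) (by norm_num)
    · change _ ≤ 4 * ((s - 1) * s ^ 7 + 1)
      rw [pow_one]
      have h6 : s ≤ s ^ 7 := Nat.le_self_pow (by norm_num) s
      have : 1 * s ^ 7 ≤ (s - 1) * s ^ 7 := Nat.mul_le_mul_right _ (by omega)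
      omega
  | te6 s =>
    have hs2 : 2 ≤ s := IsPrimePow.two_le hg
    refine ⟨s, 1, hs2, le_rfl, ?_, ?_⟩
    · change s ^ 36 * ((s ^ 2 - 1) * (s ^ 5 + 1) * (s ^ 6 - 1) * (s ^ 8 - 1) * (s ^ 9 + 1) * (s ^ 12 - 1)) ≤ _
      exact up hs2 (mul_le_pow le_rfl (mul_le_pow (mul_le_pow (mul_le_pow (mul_le_pow (mul_le_pow sub_le_pow
        (add_one_le hs2)) sub_le_pow) sub_le_pow) (add_one_le hs2)) sub_le_pow)) (by norm_num)
    · change _ ≤ 4 * ((if s = 2 then 0 else (s - 1) * s ^ 6) + 1)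
      rw [pow_one]
      split_ifs with h4
      · omega
      · have h6 : s ≤ s ^ 6 := Nat.le_self_pow (by norm_num) s
        have : 1 * s ^ 6 ≤ (s - 1) * s ^ 6 := Nat.mul_le_mul_right _ (by omega)
        omega
  | td4 s =>
    have hs2 : 2 ≤ s := IsPrimePow.two_le hg
    refine ⟨s, 1, hs2, le_rfl, ?_, ?_⟩
    · change s ^ 12 * ((s ^ 2 - 1) * (s ^ 6 - 1) * (s ^ 8 + s ^ 4 + 1)) ≤ _
      have h8 : s ^ 8 + s ^ 4 + 1 ≤ s ^ 10 := by
        have h9 : s ^ 4 + 1 ≤ s ^ 5 := add_one_le hs2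
        have h10 : s ^ 5 ≤ s ^ 8 := Nat.pow_le_pow_right (by omega) (by norm_num)
        have h11 : 2 * s ^ 8 ≤ s ^ 10 := by
          rw [show s ^ 10 = s ^ 2 * s ^ 8 by ring]
          exact Nat.mul_le_mul_right _ (by nlinarith)
        omega
      exact up hs2 (mul_le_pow le_rfl (mul_le_pow (mul_le_pow sub_le_pow sub_le_pow) h8)) (by norm_num)
    · change _ ≤ 4 * ((if s ≤ 3 then 0 else (s - 1) * s ^ 3) + 1)
      rw [pow_one]
      split_ifs with h4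
      · omega
      · have h6 : s ≤ s ^ 3 := Nat.le_self_pow (by norm_num) s
        have : 1 * s ^ 3 ≤ (s - 1) * s ^ 3 := Nat.mul_le_mul_right _ (by omega)
        omega
  | sz s =>
    obtain ⟨k, hk, rfl⟩ := hg
    have hs2 : 2 ≤ 2 ^ (2 * k + 1) := Nat.le_self_pow (by omega) 2
    generalize 2 ^ (2 * k + 1) = s at hs2 ⊢
    refine ⟨s, 1, hs2, le_rfl, ?_, ?_⟩
    · change s ^ 2 * ((s - 1) * (s ^ 2 + 1)) ≤ _
      have h1 : s - 1 ≤ s ^ 1 := by rw [pow_one]; exact Nat.sub_le _ _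
      exact up hs2 (mul_le_pow le_rfl (mul_le_pow h1 (add_one_le hs2))) (by norm_num)
    · change _ ≤ 4 * ((s - 1) + 1)
      rw [pow_one]
      omega
  | ree s =>
    obtain ⟨k, hk, rfl⟩ := hg
    have hs2 : 2 ≤ 3 ^ (2 * k + 1) := (by norm_num : 2 ≤ 3).trans (Nat.le_self_pow (by omega) 3)
    generalize 3 ^ (2 * k + 1) = s at hs2 ⊢
    refine ⟨s, 1, hs2, le_rfl, ?_, ?_⟩
    · change s ^ 3 * ((s - 1) * (s ^ 3 + 1)) ≤ _
      have h1 : s - 1 ≤ s ^ 1 := by rw [pow_one]; exact Nat.sub_le _ _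
      exact up hs2 (mul_le_pow le_rfl (mul_le_pow h1 (add_one_le hs2))) (by norm_num)
    · change _ ≤ 4 * ((s - 1) / 2 + 1)
      rw [pow_one]
      omega
  | tf4 s =>
    obtain ⟨k, hk, rfl⟩ := hg
    have hs2 : 2 ≤ 2 ^ (2 * k + 1) := Nat.le_self_pow (by omega) 2
    generalize 2 ^ (2 * k + 1) = s at hs2 ⊢
    refine ⟨s, 1, hs2, le_rfl, ?_, ?_⟩
    · change s ^ 12 * ((s - 1) * (s ^ 3 + 1) * (s ^ 4 - 1) * (s ^ 6 + 1)) ≤ _
      have h1 : s - 1 ≤ s ^ 1 := by rw [pow_one]; exact Nat.sub_le _ _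
      exact up hs2 (mul_le_pow le_rfl (mul_le_pow (mul_le_pow (mul_le_pow h1 (add_one_le hs2)) sub_le_pow)
        (add_one_le hs2))) (by norm_num)
    · change _ ≤ 4 * ((s - 1) * s + 1)
      rw [pow_one]
      have : 1 * s ≤ (s - 1) * s := Nat.mul_le_mul_right _ (by omega)
      omega
  | _ => exact hl.elim

/-- **the numerical form** -/
theorem asym_num (K : ℕ) : ∃ B : ℕ, ∀ (g : Grp) (c : ℕ), Cond g → IsLieN g → den g * c = num g → B ≤ c →
    K + Nat.log 2 c ^ 3 ≤ lb g := by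
  obtain ⟨l0, hl0⟩ := growth K
  refine ⟨max (2 ^ (248 * (l0 + 1) ^ 2)) ((excM.map num).sum + 1), fun g c hg hl he hB => ?_⟩
  have hB1 := (le_max_left _ _).trans hB
  have hB2 := (le_max_right _ _).trans hB
  have hc : c ≤ num g := by
    rw [← he]
    exact Nat.le_mul_of_pos_left _ (den_pos hg)
  have hM : g ∉ excM := by
    intro hM
    have h1 : num g ≤ (excM.map num).sum := List.single_le_sum (fun _ _ => Nat.zero_le _) _ (List.mem_map.2 ⟨g, hM, rfl⟩)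
    omega
  unfold lb
  rw [if_neg hM]
  obtain ⟨s, a, hs, ha, h1, h2⟩ := bounds hg hl
  set l := Nat.log 2 (s ^ a) with hl'
  have hsa : s ^ a ≠ 0 := (pow_pos (by omega) a).ne'
  have h3 : s ^ a < 2 ^ (l + 1) := Nat.lt_pow_succ_log_self (by norm_num) _
  have h4 : 2 ^ l ≤ s ^ a := Nat.pow_log_le_self 2 hsa
  have h5 : a ≤ l := by
    have h6 : 2 ^ a < 2 ^ (l + 1) := (Nat.pow_le_pow_left hs a).trans_lt h3
    have := (Nat.pow_lt_pow_iff_right (by norm_num : 1 < 2)).1 h6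
    omega
  have h6 : c ≤ 2 ^ ((l + 1) * (248 * a)) := by
    calc c ≤ s ^ (248 * a ^ 2) := hc.trans h1
      _ = (s ^ a) ^ (248 * a) := by rw [← pow_mul]; congr 1; ring
      _ ≤ (2 ^ (l + 1)) ^ (248 * a) := Nat.pow_le_pow_left h3.le _
      _ = _ := by rw [← pow_mul]
  have h7 : Nat.log 2 c ≤ (l + 1) * (248 * a) := by
    calc Nat.log 2 c ≤ Nat.log 2 (2 ^ ((l + 1) * (248 * a))) := Nat.log_mono_right h6
      _ = _ := Nat.log_pow (by norm_num) _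
  have h8 : (l + 1) * (248 * a) < 248 * (l + 1) ^ 2 := by nlinarith
  have h9 : 248 * (l0 + 1) ^ 2 ≤ Nat.log 2 c := by
    calc 248 * (l0 + 1) ^ 2 = Nat.log 2 (2 ^ (248 * (l0 + 1) ^ 2)) := (Nat.log_pow (by norm_num) _).symm
      _ ≤ _ := Nat.log_mono_right hB1
  have h10 : l0 ≤ l := by
    by_contra hcon
    have h11 : (l + 1) ^ 2 ≤ (l0 + 1) ^ 2 := Nat.pow_le_pow_left (by omega) 2
    omega
  have h11 := hl0 l h10
  have h12 : Nat.log 2 c ^ 3 ≤ (248 * (l + 1) ^ 2) ^ 3 := Nat.pow_le_pow_left (by omega) 3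
  omega

/-- a name of Lie type with its group: the order equation -/
theorem eq_of_real {g : Grp} (hg : Cond g) (hl : IsLieN g) {T : Type u} [Group T] (h : Real g T) :
    den g * Nat.card T = num g := by
  cases g with
  | psl m s =>
    obtain ⟨F, _, _, rfl, ⟨e⟩⟩ := h
    rw [Nat.card_congr e.toEquiv]
    exact psl_eq hg.1
  | psp m s =>
    obtain ⟨F, _, _, rfl, ⟨e⟩⟩ := h
    rw [Nat.card_congr e.toEquiv]
    exact psp_eq hg.1
  | psu m s =>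
    obtain ⟨F, _, _, hF, ⟨e⟩⟩ := h
    rw [Nat.card_congr e.toEquiv]
    exact psu_eq hF hg.1
  | oodd m s =>
    obtain ⟨F, _, _, rfl, ⟨e⟩⟩ := h
    rw [Nat.card_congr e.toEquiv]
    exact oodd_eq hg.1 hg.2.1
  | oplus m s =>
    obtain ⟨F, _, _, rfl, ⟨e⟩⟩ := h
    rw [Nat.card_congr e.toEquiv]
    exact oplus_eq hg.1
  | ominus m s =>
    obtain ⟨F, _, _, a, b, rfl, hab, ⟨e⟩⟩ := h
    rw [Nat.card_congr e.toEquiv]
    exact ominus_eq hg.1 hab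
  | g2 s =>
    obtain ⟨F, _, _, rfl, ⟨e⟩⟩ := h
    rw [Nat.card_congr e.toEquiv]
    change 1 * _ = _ ^ 6 * _
    rw [(table.{0}).g2 F]; ring
  | f4 s =>
    obtain ⟨F, _, _, rfl, ⟨e⟩⟩ := h
    rw [Nat.card_congr e.toEquiv]
    change 1 * _ = _ ^ 24 * _
    rw [(table.{0}).f4 F _ rfl]; ring
  | e6 s =>
    obtain ⟨F, _, _, rfl, ⟨e⟩⟩ := h
    rw [Nat.card_congr e.toEquiv]
    change Nat.gcd 3 (Fintype.card F - 1) * _ = _ ^ 36 * _
    rw [(table.{0}).e6 F _ rfl]; ring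
  | e7 s =>
    obtain ⟨F, _, _, rfl, ⟨e⟩⟩ := h
    rw [Nat.card_congr e.toEquiv]
    change Nat.gcd 2 (Fintype.card F - 1) * _ = _ ^ 63 * _
    rw [(table.{0}).e7 F _ rfl]; ring
  | e8 s =>
    obtain ⟨F, _, _, rfl, ⟨e⟩⟩ := h
    rw [Nat.card_congr e.toEquiv]
    change 1 * _ = _ ^ 120 * _
    rw [(table.{0}).e8 F _ rfl]; ring
  | te6 s =>
    obtain ⟨F, _, _, hF, ⟨e⟩⟩ := h
    rw [Nat.card_congr e.toEquiv]
    change Nat.gcd 3 (s + 1) * _ = _ ^ 36 * _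
    rw [(table.{0}).te6 F s hg hF]; ring
  | td4 s =>
    obtain ⟨F, _, _, hF, ⟨e⟩⟩ := h
    rw [Nat.card_congr e.toEquiv]
    change 1 * _ = _ ^ 12 * _
    rw [(table.{0}).td4 F s hg hF]; ring
  | sz s =>
    obtain ⟨F, _, _, m, hm, hF, rfl, ⟨e⟩⟩ := h
    rw [Nat.card_congr e.toEquiv]
    change 1 * _ = _ ^ 2 * _
    rw [(table.{0}).sz F m hm hF]; ring
  | ree s =>
    obtain ⟨F, _, _, m, hm, hF, rfl, ⟨e⟩⟩ := h
    rw [Nat.card_congr e.toEquiv]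
    change 1 * _ = _ ^ 3 * _
    rw [(table.{0}).ree F m hm hF]; ring
  | tf4 s =>
    obtain ⟨F, _, _, m, hm, hF, rfl, ⟨e⟩⟩ := h
    rw [Nat.card_congr e.toEquiv]
    change 1 * _ = _ ^ 12 * _
    rw [(table.{0}).tf4 F m hm hF]; ring
  | _ => exact hl.elim

theorem isLieN {r : ℕ} {g : Grp} (h : HasChar r g) : IsLieN g := by
  cases g <;> first | exact trivial | exact h.elim

/-- **Task 3707 (AF5b).** -/
theorem asym (K : ℕ) : ∃ B : ℕ, ∀ (g : Grp) (r : ℕ) (T : Type u) [Group T], r.Prime → Cond g → HasChar r g →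
    Real g T → B ≤ Nat.card T → K + Nat.log 2 (Nat.card T) ^ 3 ≤ lb g := by
  obtain ⟨B, hB⟩ := asym_num K
  exact ⟨B, fun g r T _ _ hg hr hT hc => hB g _ hg (isLieN hr) (eq_of_real hg (isLieN hr) hT) hc⟩

/-- the same, arguments in the order used by helper84 -/
theorem lb_big : ∀ K : ℕ, ∃ B : ℕ, ∀ (g : Grp) (r : ℕ) (T : Type u) [Group T], Cond g → r.Prime → HasChar r g →
    Real g T → B ≤ Nat.card T → K + (Nat.log 2 (Nat.card T)) ^ 3 ≤ lb g := by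
  intro K
  obtain ⟨B, hB⟩ := asym.{u} K
  exact ⟨B, fun g r T _ hg hr hch hT hc => hB g r T hr hg hch hT hc⟩

end Cfsg.Agent.H127.Af
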